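import Cfsg.Agent.Lib.Char.Product
import Cfsg.Agent.Lib.Char.Clifford2
import Cfsg.Agent.Lib.Char.Gallagher
import Cfsg.Agent.Lib.Char.QuasiPrim
import Cfsg.Agent.Lib.ClassSizes.SolvFrob

/-!
# Wreath products `H ≀ C_q` of M-groups are M-groups
-/

set_option autoImplicit false
set_option linter.unusedSectionVars false
set_option linter.style.haveILetI false
set_option linter.unusedSimpArgs false
set_option linter.unnecessarySimpa false

open scoped ComplexConjugate

namespace Cfsg.Agent.Lib.MGroup

open Cfsg (classInner IsCharacter IsIrrCharacter IrrCharacter IsClassFunction indFun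
  extendByZero charDegree)
open Cfsg.Agent.Lib.Char

universe u

section Tensor

variable {H : Type u} [Group H]

theorem irr_of_subsingleton {A : Type u} [Group A] [Finite A] [Subsingleton A] {θ : A → ℂ}
    (h : IsIrrCharacter A θ) : θ = fun _ => 1 := by
  have h1 := charDegree_eq_one_of_comm (fun a b => Subsingleton.elim _ _) h
  funext x
  rw [Subsingleton.elim x 1]
  exact h1

/-- Irreducible characters of `ι → H` are outer products. -/
theorem exists_tensor_of_irr [Finite H] (ι : Type) [Fintype ι] :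
    ∀ {θ : (ι → H) → ℂ}, IsIrrCharacter (ι → H) θ →
      ∃ t : ι → H → ℂ, (∀ i, IsIrrCharacter H (t i)) ∧ θ = fun x => ∏ i, t i (x i) := by
  classical
  refine Fintype.induction_empty_option
    (P := fun (ι : Type) (_ : Fintype ι) => ∀ {θ : (ι → H) → ℂ}, IsIrrCharacter (ι → H) θ →
      ∃ t : ι → H → ℂ, (∀ i, IsIrrCharacter H (t i)) ∧ θ = fun x => ∏ i, t i (x i)) ?_ ?_ ?_ ι
  · intro α β _ e ih θ hθ
    letI : Fintype α := Fintype.ofEquiv β e.symm
    have hθ' : IsIrrCharacter (α → H) (θ ∘ (MulEquiv.arrowCongr e (MulEquiv.refl H))) :=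
      isIrr_comp_equiv _ hθ
    obtain ⟨t, ht, htt⟩ := ih hθ'
    refine ⟨fun i => t (e.symm i), fun i => ht _, ?_⟩
    funext x
    have h1 := congrFun htt (fun a => x (e a))
    have h2 : (MulEquiv.arrowCongr e (MulEquiv.refl H)) (fun a => x (e a)) = x := by
      funext b
      simp [MulEquiv.arrowCongr]
    simp only [Function.comp_apply, h2] at h1
    rw [h1]
    exact Fintype.prod_equiv e _ _ (fun a => by simp)
  · intro θ hθ
    refine ⟨fun i => i.elim, fun i => i.elim, ?_⟩
    rw [irr_of_subsingleton hθ]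
    funext x
    simp
  · intro α _ ih θ hθ
    let E : (H × (α → H)) ≃* (Option α → H) :=
      { toFun := fun p i => i.elim p.1 p.2
        invFun := fun f => (f none, fun a => f (some a))
        left_inv := fun p => by simp
        right_inv := fun f => by funext i; cases i <;> rfl
        map_mul' := fun p p' => by funext i; cases i <;> rfl }
    have hθ' : IsIrrCharacter (H × (α → H)) (θ ∘ E) := isIrr_comp_equiv E hθ
    obtain ⟨φ, ψ, hφ, hψ, hp⟩ := exists_prod_of_isIrr hθ'
    obtain ⟨t, ht, htt⟩ := ih hψ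
    refine ⟨fun i => i.elim φ t, fun i => ?_, ?_⟩
    · cases i
      · exact hφ
      · exact ht _
    · funext x
      have h1 := congrFun hp (x none, fun a => x (some a))
      have h2 : E (x none, fun a => x (some a)) = x := E.right_inv x
      simp only [Function.comp_apply, h2] at h1
      rw [h1, htt, Fintype.prod_option]
      rfl

end Tensor

section Pi

variable {H : Type u} [Group H] [Fintype H] {ι : Type} [Fintype ι]

/-- The linear character `∏ lam i` of a product of subgroups. -/
def piLam (U : ι → Subgroup H) (lam : ∀ i, U i →* ℂˣ) :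
    Subgroup.pi Set.univ U →* ℂˣ where
  toFun u := ∏ i, lam i ⟨(u : ι → H) i, ((Subgroup.mem_pi Set.univ).1 u.2) i (Set.mem_univ i)⟩
  map_one' := by
    refine Finset.prod_eq_one fun i _ => ?_
    exact map_one (lam i)
  map_mul' a b := by
    rw [← Finset.prod_mul_distrib]
    refine Finset.prod_congr rfl fun i _ => ?_
    rw [← map_mul]
    rfl

theorem ext_piLam (U : ι → Subgroup H) (lam : ∀ i, U i →* ℂˣ) (x : ι → H) :
    extendByZero (Subgroup.pi Set.univ U) (fun u => ((piLam U lam u : ℂˣ) : ℂ)) x =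
      ∏ i, extendByZero (U i) (fun u => (lam i u : ℂ)) (x i) := by
  classical
  by_cases hx : ∀ i, x i ∈ U i
  · have hmem : x ∈ Subgroup.pi Set.univ U := (Subgroup.mem_pi Set.univ).2 fun i _ => hx i
    rw [extendByZero_of_mem _ _ hmem]
    simp only [piLam, MonoidHom.coe_mk, OneHom.coe_mk, Units.coe_prod]
    refine Finset.prod_congr rfl fun i _ => ?_
    rw [extendByZero_of_mem _ _ (hx i)]
  · push Not at hx
    obtain ⟨i, hi⟩ := hx
    have hmem : x ∉ Subgroup.pi Set.univ U := fun h => hi ((Subgroup.mem_pi Set.univ).1 h i (Set.mem_univ i))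
    rw [extendByZero_of_not_mem _ _ hmem]
    symm
    refine Finset.prod_eq_zero (Finset.mem_univ i) ?_
    rw [extendByZero_of_not_mem _ _ hi]

theorem card_pi_subgroup (U : ι → Subgroup H) :
    Nat.card (Subgroup.pi Set.univ U) = ∏ i, Nat.card (U i) := by
  classical
  rw [← Nat.card_pi]
  refine Nat.card_congr
    { toFun := fun u i => ⟨(u : ι → H) i, ((Subgroup.mem_pi Set.univ).1 u.2) i (Set.mem_univ i)⟩
      invFun := fun f => ⟨fun i => f i, (Subgroup.mem_pi Set.univ).2 fun i _ => (f i).2⟩
      left_inv := fun u => rfl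
      right_inv := fun f => rfl }

/-- Outer products of monomial functions are monomial. -/
theorem tensor_monomial [Fintype (ι → H)] (t : ι → H → ℂ) (ht : ∀ i, IsMonomialFn (t i)) :
    IsMonomialFn (fun x : ι → H => ∏ i, t i (x i)) := by
  classical
  choose U lam hU using ht
  refine ⟨Subgroup.pi Set.univ U, piLam U lam, ?_⟩
  funext y
  rw [indFun_apply, card_pi_subgroup]
  have h1 : ∀ x : ι → H, extendByZero (Subgroup.pi Set.univ U)
      (fun u => ((piLam U lam u : ℂˣ) : ℂ)) (x⁻¹ * y * x) =
      ∏ i, extendByZero (U i) (fun u => (lam i u : ℂ)) ((x i)⁻¹ * y i * x i) := by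
    intro x
    rw [ext_piLam]
    rfl
  simp_rw [h1]
  have h2 : ∑ x : ι → H, ∏ i, extendByZero (U i) (fun u => (lam i u : ℂ)) ((x i)⁻¹ * y i * x i) =
      ∏ i, ∑ a : H, extendByZero (U i) (fun u => (lam i u : ℂ)) (a⁻¹ * y i * a) := by
    rw [Finset.prod_univ_sum, Fintype.piFinset_univ]
    exact Fintype.sum_congr _ _ (fun _ => rfl) |>.trans (by congr!)
  rw [h2]
  push_cast
  rw [← Finset.prod_inv_distrib, ← Finset.prod_mul_distrib]
  refine Finset.prod_congr rfl fun i _ => ?_
  rw [hU i, indFun_apply]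

/-- Monomiality transfers along isomorphisms. -/
theorem isMonomialFn_of_comp_equiv {A B : Type u} [Group A] [Group B] [Fintype A] [Fintype B]
    (e : A ≃* B) {φ : B → ℂ} (h : IsMonomialFn (φ ∘ e)) : IsMonomialFn φ := by
  classical
  obtain ⟨U, lam, hU⟩ := h
  let e' : U ≃* U.map e.toMonoidHom := U.equivMapOfInjective e.toMonoidHom e.injective
  refine ⟨U.map e.toMonoidHom, lam.comp e'.symm.toMonoidHom, ?_⟩
  funext b
  obtain ⟨a, rfl⟩ := e.surjective b
  have h1 := congrFun hU a
  simp only [Function.comp_apply] at h1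
  rw [h1, indFun_apply, indFun_apply]
  have hc : Nat.card (U.map e.toMonoidHom) = Nat.card U := Nat.card_congr e'.symm.toEquiv
  rw [hc]
  congr 1
  refine (Fintype.sum_equiv e.toEquiv (fun x : A => extendByZero U (fun u => (lam u : ℂ)) (x⁻¹ * a * x))
    (fun x : B => extendByZero (U.map e.toMonoidHom) (fun u => (lam.comp e'.symm.toMonoidHom u : ℂ)) (x⁻¹ * e a * x)) fun x => ?_)
  show extendByZero U _ (x⁻¹ * a * x) = extendByZero _ _ ((e x)⁻¹ * e a * e x)
  have h2 : (e x)⁻¹ * e a * e x = e (x⁻¹ * a * x) := by simp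
  rw [h2]
  by_cases hx : x⁻¹ * a * x ∈ U
  · have hm : e (x⁻¹ * a * x) ∈ U.map e.toMonoidHom := ⟨_, hx, rfl⟩
    rw [extendByZero_of_mem _ _ hx, extendByZero_of_mem _ _ hm]
    simp only [MonoidHom.comp_apply]
    congr 2
    have : e'.symm (⟨e (x⁻¹ * a * x), hm⟩ : U.map e.toMonoidHom) = ⟨x⁻¹ * a * x, hx⟩ :=
      e'.symm_apply_apply ⟨x⁻¹ * a * x, hx⟩
    exact this.symm
  · rw [extendByZero_of_not_mem _ _ hx, extendByZero_of_not_mem]
    intro hmem
    obtain ⟨z, hz, hz2⟩ := hmem
    have := e.injective hz2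
    exact hx (this ▸ hz)

end Pi


section Wreath

variable (H : Type u) [Group H] (q : ℕ)

/-- The shift automorphism of `ZMod q → H`. -/
def rotAut (c : ZMod q) : MulAut (ZMod q → H) where
  toFun f i := f (i - c)
  invFun f i := f (i + c)
  left_inv f := by funext i; simp
  right_inv f := by funext i; simp
  map_mul' f g := rfl

/-- The shift action. -/
def rot : Multiplicative (ZMod q) →* MulAut (ZMod q → H) where
  toFun c := rotAut H q c.toAdd
  map_one' := by
    ext f i
    simp [rotAut]
  map_mul' a b := by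
    ext f i
    simp [rotAut, MulAut.mul_apply, sub_sub, add_comm]

/-- The wreath product `H ≀ C_q`. -/
abbrev Wr := (ZMod q → H) ⋊[rot H q] Multiplicative (ZMod q)

variable {H q}

theorem wr_mul_left_apply (a b : Wr H q) (i : ZMod q) :
    (a * b).left i = a.left i * b.left (i - a.right.toAdd) := rfl

theorem wr_inv_left_apply (a : Wr H q) (i : ZMod q) :
    (a⁻¹).left i = (a.left (i + a.right.toAdd))⁻¹ := by
  show (a.left (i - (a.right⁻¹).toAdd))⁻¹ = _
  simp

theorem wr_inl_left (y : ZMod q → H) : (SemidirectProduct.inl y : Wr H q).left = y := rfl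

/-- Conjugation of a base element. -/
theorem wr_conj_left (w : Wr H q) (y : ZMod q → H) (i : ZMod q) :
    (w⁻¹ * SemidirectProduct.inl y * w).left i =
      (w.left (i + w.right.toAdd))⁻¹ * y (i + w.right.toAdd) * w.left (i + w.right.toAdd) := by
  rw [wr_mul_left_apply, wr_mul_left_apply, wr_inv_left_apply]
  have h1 : (w⁻¹).right.toAdd = - w.right.toAdd := rfl
  have h2 : ((w⁻¹ * SemidirectProduct.inl y : Wr H q)).right.toAdd = - w.right.toAdd := by
    show (w⁻¹.right * (SemidirectProduct.inl y : Wr H q).right).toAdd = _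
    simp
  rw [h1, h2, wr_inl_left]
  simp

variable (H q)

/-- The base group. -/
def wrB : Subgroup (Wr H q) := (SemidirectProduct.rightHom (φ := rot H q)).ker

instance wrB_normal : (wrB H q).Normal := MonoidHom.normal_ker _

/-- The base group is the product. -/
def wrE : (ZMod q → H) ≃* wrB H q where
  toFun y := ⟨SemidirectProduct.inl y, by simp [wrB, MonoidHom.mem_ker]⟩
  invFun w := w.1.left
  left_inv y := rfl
  right_inv w := by
    refine Subtype.ext (SemidirectProduct.ext rfl ?_)
    have h : (w.1).right = 1 := w.2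
    exact h.symm
  map_mul' a b := by
    refine Subtype.ext ?_
    simp

variable {H q}

theorem wrE_coe (y : ZMod q → H) : ((wrE H q y : wrB H q) : Wr H q) = SemidirectProduct.inl y := rfl

theorem wrB_index [NeZero q] [Finite H] : (wrB H q).index = q := by
  unfold wrB
  rw [Subgroup.index_ker, MonoidHom.range_eq_top.2 SemidirectProduct.rightHom_surjective]
  rw [Nat.card_congr (Subgroup.topEquiv).toEquiv]
  show Nat.card (ZMod q) = q
  rw [Nat.card_zmod]

theorem wrB_eq_or_top [NeZero q] [Finite H] (hq : q.Prime) {T : Subgroup (Wr H q)}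
    (h : wrB H q ≤ T) : T = wrB H q ∨ T = ⊤ := by
  have h1 := Subgroup.relIndex_mul_index h
  rw [wrB_index] at h1
  rcases (Nat.dvd_prime hq).1 (Dvd.intro _ h1 : (wrB H q).relIndex T ∣ q) with h2 | h2
  · left
    exact le_antisymm (Subgroup.relIndex_eq_one.1 h2) h
  · right
    rw [h2] at h1
    have h3 : T.index = 1 := by
      have hqpos := hq.pos
      exact Nat.eq_of_mul_eq_mul_left hqpos (by omega)
    exact Subgroup.index_eq_one.1 h3

instance wrFinite [Finite H] [NeZero q] : Finite (Wr H q) :=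
  Finite.of_equiv _ (SemidirectProduct.equivProd (φ := rot H q)).symm

end Wreath


section Invariant

variable {H : Type u} [Group H] [Fintype H] {q : ℕ} [NeZero q]

noncomputable instance wrFintype : Fintype (Wr H q) := Fintype.ofFinite _

noncomputable instance wrBFintype : Fintype (wrB H q) := Fintype.ofFinite _

/-- The wreath product of a subgroup with `C_q`, inside `H ≀ C_q`. -/
def wrU (U : Subgroup H) : Subgroup (Wr H q) where
  carrier := {w | ∀ i, w.left i ∈ U}
  mul_mem' ha hb i := U.mul_mem (ha i) (hb _)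
  one_mem' i := U.one_mem
  inv_mem' {a} ha i := by
    rw [wr_inv_left_apply]
    exact U.inv_mem (ha _)

/-- The tensor-induced linear character. -/
def wrLam (U : Subgroup H) (lam : U →* ℂˣ) : wrU (q := q) U →* ℂˣ where
  toFun w := ∏ i, lam ⟨w.1.left i, w.2 i⟩
  map_one' := Finset.prod_eq_one fun i _ => map_one lam
  map_mul' a b := by
    rw [← Equiv.prod_comp (Equiv.subRight a.1.right.toAdd) (fun i => lam ⟨b.1.left i, b.2 i⟩)]
    rw [← Finset.prod_mul_distrib]
    refine Finset.prod_congr rfl fun i _ => ?_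
    rw [← map_mul]
    rfl

theorem ext_wrLam (U : Subgroup H) (lam : U →* ℂˣ) (w : Wr H q) :
    extendByZero (wrU U) (fun u => ((wrLam U lam u : ℂˣ) : ℂ)) w =
      ∏ i, extendByZero U (fun u => (lam u : ℂ)) (w.left i) := by
  classical
  by_cases hx : ∀ i, w.left i ∈ U
  · have hmem : w ∈ wrU (q := q) U := hx
    rw [extendByZero_of_mem _ _ hmem]
    simp only [wrLam, MonoidHom.coe_mk, OneHom.coe_mk, Units.coe_prod]
    refine Finset.prod_congr rfl fun i _ => ?_
    rw [extendByZero_of_mem _ _ (hx i)]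
  · push Not at hx
    obtain ⟨i, hi⟩ := hx
    have hmem : w ∉ wrU (q := q) U := fun h => hi (h i)
    rw [extendByZero_of_not_mem _ _ hmem]
    symm
    refine Finset.prod_eq_zero (Finset.mem_univ i) ?_
    rw [extendByZero_of_not_mem _ _ hi]

theorem card_wrU (U : Subgroup H) : Nat.card (wrU (q := q) U) = Nat.card U ^ q * q := by
  have h : Nat.card (wrU (q := q) U) = Nat.card ((ZMod q → U) × Multiplicative (ZMod q)) :=
    Nat.card_congr
      { toFun := fun w => (fun i => ⟨w.1.left i, w.2 i⟩, w.1.right)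
        invFun := fun p => ⟨⟨fun i => p.1 i, p.2⟩, fun i => (p.1 i).2⟩
        left_inv := fun w => rfl
        right_inv := fun p => rfl }
  rw [h, Nat.card_prod, Nat.card_fun, Nat.card_zmod]
  congr 1
  show Nat.card (ZMod q) = q
  exact Nat.card_zmod q

theorem indFun_wrLam_inl (U : Subgroup H) (lam : U →* ℂˣ) (y : ZMod q → H) :
    indFun (wrU U) (fun u => ((wrLam U lam u : ℂˣ) : ℂ)) (SemidirectProduct.inl y : Wr H q) =
      ∏ i, indFun U (fun u => (lam u : ℂ)) (y i) := by
  classical
  set E : H → ℂ := extendByZero U (fun u => (lam u : ℂ)) with hE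
  rw [indFun_apply, card_wrU]
  simp_rw [ext_wrLam, wr_conj_left, ← hE]
  have h1 : ∀ w : Wr H q, ∏ i, E ((w.left (i + w.right.toAdd))⁻¹ * y (i + w.right.toAdd) *
      w.left (i + w.right.toAdd)) = ∏ j, E ((w.left j)⁻¹ * y j * w.left j) := fun w =>
    Equiv.prod_comp (Equiv.addRight w.right.toAdd) (fun j => E ((w.left j)⁻¹ * y j * w.left j))
  simp_rw [h1]
  have h2 : ∑ w : Wr H q, ∏ j, E ((w.left j)⁻¹ * y j * w.left j) =
      ∑ p : (ZMod q → H) × Multiplicative (ZMod q), ∏ j, E ((p.1 j)⁻¹ * y j * p.1 j) :=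
    Fintype.sum_equiv (SemidirectProduct.equivProd (φ := rot H q)) _ _ (fun w => rfl)
  have h3 : ∑ x : ZMod q → H, ∏ i, E ((x i)⁻¹ * y i * x i) =
      ∏ i, ∑ a : H, E (a⁻¹ * y i * a) := by
    rw [Finset.prod_univ_sum, Fintype.piFinset_univ]
  rw [h2, Fintype.sum_prod_type_right]
  simp only [Finset.sum_const, Finset.card_univ, smul_eq_mul, nsmul_eq_mul, h3]
  have hc : Fintype.card (Multiplicative (ZMod q)) = q :=
    (Fintype.card_congr Multiplicative.toAdd).trans (ZMod.card q)
  rw [hc]
  simp_rw [indFun_apply, ← hE]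
  rw [Finset.prod_mul_distrib, Finset.prod_const, Finset.card_univ, ZMod.card]
  have hq0 : (q : ℂ) ≠ 0 := Nat.cast_ne_zero.2 (NeZero.ne q)
  push_cast
  rw [mul_inv, inv_pow]
  field_simp


/-- An irreducible character trivial (scalar) on a normal subgroup with abelian quotient is linear. -/
theorem degree_one_of_restrict_trivial {G : Type u} [Group G] [Finite G] (N : Subgroup G)
    (hab : ∀ a b : G, a * b * a⁻¹ * b⁻¹ ∈ N) {β : G → ℂ} (hβ : IsIrrCharacter G β) (c : ℂ)
    (hc : ∀ n : N, β n = c) : β 1 = 1 := by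
  obtain ⟨n, ρ, hρ, rfl⟩ := hβ
  have hid : ∀ x ∈ N, ρ x = LinearMap.id := by
    intro x hx
    refine (character_eq_finrank_iff ρ x (isOfFinOrder_of_finite x)).1 ?_
    rw [← Representation.char_one ρ]
    exact (hc ⟨x, hx⟩).trans (hc 1).symm
  have hcomm : ∀ a b, ρ (a * b) = ρ (b * a) := by
    intro a b
    have h := hid _ (hab a b)
    have h2 : a * b = (a * b * a⁻¹ * b⁻¹) * (b * a) := by group
    calc ρ (a * b) = ρ ((a * b * a⁻¹ * b⁻¹) * (b * a)) := by rw [← h2]
      _ = ρ (b * a) := by rw [map_mul, h]; rfl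
  have h1 := finrank_eq_one_of_image_comm ρ hρ hcomm
  rw [Representation.char_one, h1]
  simp

theorem wr_comm_mem (a b : Wr H q) : a * b * a⁻¹ * b⁻¹ ∈ wrB H q := by
  show (a * b * a⁻¹ * b⁻¹).right = 1
  show a.right * b.right * a.right⁻¹ * b.right⁻¹ = 1
  rw [mul_comm a.right b.right]
  group

theorem wr_monomial_invariant {ψ₀ : H → ℂ} (U : Subgroup H) (lam : U →* ℂˣ)
    (hU : ψ₀ = indFun U (fun u => (lam u : ℂ)))
    {θ : wrB H q → ℂ} (hθ : IsIrrCharacter _ θ)
    (hθt : ∀ y, θ (wrE H q y) = ∏ i, ψ₀ (y i))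
    {χ : Wr H q → ℂ} (hχ : IsIrrCharacter _ χ)
    (hcon : classInner (fun n : wrB H q => χ n) θ ≠ 0)
    (hinv : ∀ g, conjFn (wrB_normal H q) g θ = θ) : IsMonomialFn χ := by
  classical
  let Λ := wrLam (q := q) U lam
  set X : Wr H q → ℂ := indFun (wrU U) (fun u => ((Λ u : ℂˣ) : ℂ)) with hX
  have hXc : IsCharacter _ X :=
    indFun_isCharacter _ (IsIrrCharacter.isCharacter (isIrrCharacter_of_hom Λ))
  have hres : ∀ n : wrB H q, X n = θ n := by
    intro n
    obtain ⟨y, rfl⟩ := (wrE H q).surjective n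
    rw [hθt, wrE_coe, hX, indFun_wrLam_inl, hU]
  have hXirr : IsIrrCharacter _ X := isIrr_of_restrict_isIrr (wrB H q) hXc (by
    have h : (fun x : wrB H q => X x) = θ := funext hres
    rw [h]
    exact hθ)
  have hprodeq : ((fun _ => (1 : ℂ)) * θ) = θ := by
    funext n
    simp
  have hprod : IsIrrCharacter (wrB H q) ((fun _ => (1 : ℂ)) * θ) := by
    rw [hprodeq]
    exact hθ
  have hbij := gallagher_bijOn (wrB H q) (φ := fun _ => 1) (ϑ := θ) isIrrCharacter_one hθ
    (fun g => rfl) hprod hXirr hres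
  have hmem : χ ∈ {ψ : Wr H q → ℂ | IsIrrCharacter _ ψ ∧
      classInner (indFun (wrB H q) ((fun _ => (1 : ℂ)) * θ)) ψ ≠ 0} := by
    refine ⟨hχ, ?_⟩
    rw [frobenius_reciprocity _ _ _ (IsCharacter.isClassFunction (IsIrrCharacter.isCharacter hχ)),
      hprodeq, ← conj_classInner]
    exact (map_ne_zero _).2 hcon
  obtain ⟨β, ⟨hβ, hβ0⟩, hβχ⟩ := hbij.surjOn hmem
  rw [frobenius_reciprocity _ _ _ (IsCharacter.isClassFunction (IsIrrCharacter.isCharacter hβ))]
    at hβ0
  have h' : classInner (fun n : wrB H q => β n) (fun _ => 1) ≠ 0 := by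
    rw [← conj_classInner]
    exact (map_ne_zero _).2 hβ0
  have hβres := clifford_invariant (wrB_normal H q) hβ isIrrCharacter_one (fun g => rfl) h'
  have hβ1 : β 1 = 1 := degree_one_of_restrict_trivial (wrB H q) wr_comm_mem hβ
    (classInner (fun n : wrB H q => β n) (fun _ => 1)) (fun n => by
      have := congrFun hβres n
      simpa using this)
  obtain ⟨μ, hμ⟩ := exists_hom_of_character_one (IsIrrCharacter.isCharacter hβ) hβ1
  have hχ' : χ = indFun (wrU U) ((fun u => ((Λ u : ℂˣ) : ℂ)) * fun u : wrU U => β u) := by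
    rw [← indFun_mul_class _ _ _ (IsCharacter.isClassFunction (IsIrrCharacter.isCharacter hβ)),
      ← hβχ]
    funext g
    exact mul_comm _ _
  refine ⟨wrU U, Λ * μ.comp (wrU U).subtype, ?_⟩
  rw [hχ', hμ]
  congr 1

theorem irr_eq_of_smul {G : Type u} [Group G] [Fintype G] {a b : G → ℂ}
    (ha : IsIrrCharacter G a) (hb : IsIrrCharacter G b) {c : ℂ} (hc : c ≠ 0) (h : a = c • b) :
    a = b := by
  by_contra hne
  have h0 := classInner_irr_of_ne ha hb hne
  rw [h, classInner_smul_left, classInner_irr_self hb, mul_one] at h0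
  exact hc h0

theorem tensor_const_of_invariant {t : ZMod q → H → ℂ} (ht : ∀ i, IsIrrCharacter H (t i))
    (hinv : ∀ y : ZMod q → H, ∏ i, t i (y (i - 1)) = ∏ i, t i (y i)) : ∀ i, t i = t 0 := by
  classical
  let D : ZMod q → ℂ := fun i => ∏ k ∈ Finset.univ.erase i, t k 1
  have hD : ∀ i, D i ≠ 0 := fun i =>
    Finset.prod_ne_zero_iff.2 fun k _ => map_one_ne_zero_of_irr (ht k)
  have step : ∀ j, t (j + 1) = t j := by
    intro j
    have h1 : t (j + 1) = (D j / D (j + 1)) • t j := by
      funext h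
      have h2 := hinv (Function.update 1 j h)
      rw [← Finset.mul_prod_erase Finset.univ _ (Finset.mem_univ (j + 1)),
        ← Finset.mul_prod_erase Finset.univ _ (Finset.mem_univ j)] at h2
      have h3 : ∏ x ∈ Finset.univ.erase (j + 1), t x (Function.update (1 : ZMod q → H) j h (x - 1)) =
          D (j + 1) := by
        refine Finset.prod_congr rfl fun x hx => ?_
        have hx' : x - 1 ≠ j := fun h => (Finset.ne_of_mem_erase hx) (by rw [← h]; ring)
        rw [Function.update_of_ne hx']
        rfl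
      have h4 : ∏ x ∈ Finset.univ.erase j, t x (Function.update (1 : ZMod q → H) j h x) = D j := by
        refine Finset.prod_congr rfl fun x hx => ?_
        rw [Function.update_of_ne (Finset.ne_of_mem_erase hx)]
        rfl
      rw [h3, h4, add_sub_cancel_right, Function.update_self] at h2
      have hne := hD (j + 1)
      show t (j + 1) h = D j / D (j + 1) * t j h
      field_simp
      linear_combination h2
    refine irr_eq_of_smul (ht _) (ht _) (div_ne_zero (hD _) (hD _)) h1
  have hn : ∀ n : ℕ, t (n : ZMod q) = t 0 := by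
    intro n
    induction n with
    | zero => simp
    | succ n ih =>
      rw [Nat.cast_succ, step, ih]
  intro i
  have := hn i.val
  rwa [ZMod.natCast_zmod_val] at this

theorem wr_mgroup (hq : q.Prime) (hH : ∀ χ : H → ℂ, IsIrrCharacter H χ → IsMonomialFn χ) :
    ∀ χ : Wr H q → ℂ, IsIrrCharacter _ χ → IsMonomialFn χ := by
  classical
  intro χ hχ
  have hB := wrB_normal H q
  have hχc := IsIrrCharacter.isCharacter hχ
  have hne : (fun n : wrB H q => χ n) ≠ 0 := by
    intro h
    have := congrFun h 1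
    exact map_one_ne_zero_of_irr hχ this
  obtain ⟨θ, hθ, hcon⟩ := exists_constituent (IsCharacter.restrict (wrB H q) hχc) hne
  have hθe : IsIrrCharacter (ZMod q → H) (θ ∘ wrE H q) := isIrr_comp_equiv _ hθ
  obtain ⟨t, ht, htt⟩ := exists_tensor_of_irr (ZMod q) hθe
  have hθc := IsCharacter.isClassFunction (IsIrrCharacter.isCharacter hθ)
  rcases wrB_eq_or_top hq (le_inertia hB hθc) with h | h
  · obtain ⟨ψ, hψ, hψχ, -⟩ := clifford_correspondence hB hθ (T := wrB H q) h.symm le_rfl hχ hcon
    have hψe := isIrr_comp_equiv (wrE H q) hψ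
    obtain ⟨s, hs, hss⟩ := exists_tensor_of_irr (ZMod q) hψe
    rw [← hψχ]
    apply isMonomialFn_indFun
    apply isMonomialFn_of_comp_equiv (wrE H q)
    rw [hss]
    exact tensor_monomial s (fun i => hH _ (hs i))
  · have hinv : ∀ g, conjFn hB g θ = θ := fun g => by
      have hg : g ∈ inertia hB θ := h ▸ Subgroup.mem_top g
      exact hg
    have hθt : ∀ y, θ (wrE H q y) = ∏ i, t i (y i) := fun y => congrFun htt y
    have hrot : ∀ y : ZMod q → H, ∏ i, t i (y (i - 1)) = ∏ i, t i (y i) := by
      intro y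
      have h1 := congrFun (hinv (SemidirectProduct.inr (Multiplicative.ofAdd 1))) (wrE H q y)
      have h2 : (⟨SemidirectProduct.inr (Multiplicative.ofAdd 1) * ((wrE H q y : wrB H q) : Wr H q) *
          (SemidirectProduct.inr (Multiplicative.ofAdd 1))⁻¹, hB.conj_mem _ (wrE H q y).2 _⟩ : wrB H q) =
          wrE H q (rot H q (Multiplicative.ofAdd 1) y) := by
        refine Subtype.ext ?_
        show SemidirectProduct.inr _ * SemidirectProduct.inl y * (SemidirectProduct.inr _)⁻¹ =
          SemidirectProduct.inl _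
        rw [SemidirectProduct.inl_aut, map_inv]
      have h3 : conjFn hB (SemidirectProduct.inr (Multiplicative.ofAdd (1 : ZMod q))) θ (wrE H q y) =
          θ (wrE H q (rot H q (Multiplicative.ofAdd 1) y)) := congrArg θ h2
      have h4 : θ (wrE H q (rot H q (Multiplicative.ofAdd 1) y)) = θ (wrE H q y) := h3.symm.trans h1
      rw [hθt, hθt] at h4
      exact h4
    have hconst := tensor_const_of_invariant ht hrot
    obtain ⟨U, lam, hU⟩ := hH _ (ht 0)
    refine wr_monomial_invariant U lam hU hθ (fun y => ?_) hχ hcon hinv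
    rw [hθt]
    exact Finset.prod_congr rfl fun i _ => by rw [hconst i]

end Invariant


section Embed

/-- A group with a normal subgroup of prime index embeds into the wreath product. -/
theorem exists_wr_embedding {G M₀ : Type u} [Group G] [Group M₀] [Finite G] (N : Subgroup G) [N.Normal]
    {q : ℕ} (hq : q.Prime) (hindex : N.index = q) (f₀ : N →* M₀)
    (hf₀ : Function.Injective f₀) : ∃ f : G →* Wr M₀ q, Function.Injective f := by
  classical
  haveI : Fact q.Prime := ⟨hq⟩
  haveI : NeZero q := ⟨hq.ne_zero⟩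
  have hcardQ : Nat.card (G ⧸ N) = q := hindex
  let eQ : (G ⧸ N) ≃* Multiplicative (ZMod q) := mulEquivOfPrimeCardEq hcardQ (by
    show Nat.card (ZMod q) = q
    exact Nat.card_zmod q)
  let π : G →* Multiplicative (ZMod q) := eQ.toMonoidHom.comp (QuotientGroup.mk' N)
  have hπs : Function.Surjective π := eQ.surjective.comp (QuotientGroup.mk'_surjective N)
  have hπk : ∀ g, π g = 1 ↔ g ∈ N := by
    intro g
    show eQ (g : G ⧸ N) = 1 ↔ _
    rw [map_eq_one_iff eQ eQ.injective, QuotientGroup.eq_one_iff]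
  let t : ZMod q → G := fun i => Function.surjInv hπs (Multiplicative.ofAdd i)
  have ht : ∀ i, π (t i) = Multiplicative.ofAdd i := fun i => Function.surjInv_eq hπs _
  have hmem : ∀ g i, (t i)⁻¹ * g * t (i - (π g).toAdd) ∈ N := by
    intro g i
    rw [← hπk, map_mul, map_mul, map_inv, ht, ht]
    apply Multiplicative.toAdd.injective
    simp
  let F : G → Wr M₀ q := fun g => ⟨fun i => f₀ ⟨(t i)⁻¹ * g * t (i - (π g).toAdd), hmem g i⟩, π g⟩
  have hF : ∀ a b, F (a * b) = F a * F b := by
    intro a b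
    refine SemidirectProduct.ext (funext fun i => ?_) (map_mul π a b)
    show f₀ _ = f₀ _ * f₀ _
    rw [← map_mul]
    congr 1
    refine Subtype.ext ?_
    show (t i)⁻¹ * (a * b) * t (i - (π (a * b)).toAdd) =
      (t i)⁻¹ * a * t (i - (π a).toAdd) * ((t (i - (π a).toAdd))⁻¹ * b *
        t (i - (π a).toAdd - (π b).toAdd))
    have h1 : i - (π (a * b)).toAdd = i - (π a).toAdd - (π b).toAdd := by
      rw [map_mul, toAdd_mul, sub_sub]
    rw [h1]
    group
  refine ⟨MonoidHom.mk' F hF, ?_⟩
  rw [injective_iff_map_eq_one]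
  intro g hg
  have h1 : π g = 1 := congrArg SemidirectProduct.right hg
  have h2 : (F g).left 0 = 1 := congrFun (congrArg SemidirectProduct.left hg) 0
  have h3 : f₀ ⟨(t 0)⁻¹ * g * t (0 - (π g).toAdd), hmem g 0⟩ = 1 := h2
  have h4 := (map_eq_one_iff f₀ hf₀).1 h3
  have h5 : (t 0)⁻¹ * g * t (0 - (π g).toAdd) = 1 := congrArg Subtype.val h4
  rw [h1] at h5
  simp only [toAdd_one, sub_zero] at h5
  have h6 : (t 0)⁻¹ * g * t 0 = 1 := h5
  calc g = t 0 * ((t 0)⁻¹ * g * t 0) * (t 0)⁻¹ := by group
    _ = 1 := by rw [h6]; group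

theorem exists_mgroup_embedding : ∀ (n : ℕ) (G : Type u) [Group G] [Finite G], Nat.card G = n →
    Group.IsSolvable G → ∃ (M : Type u) (_ : Group M) (_ : Fintype M),
      (∀ χ : M → ℂ, IsIrrCharacter M χ → IsMonomialFn χ) ∧
        ∃ f : G →* M, Function.Injective f := by
  intro n
  induction n using Nat.strong_induction_on with
  | _ n ih =>
    intro G _ _ hn hsolv
    by_cases hG : Subsingleton G
    · refine ⟨G, inferInstance, Fintype.ofFinite _, ?_, MonoidHom.id G, Function.injective_id⟩
      intro χ hχ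
      letI : Fintype G := Fintype.ofFinite _
      have h1 := irr_of_subsingleton hχ
      exact isMonomialFn_of_degree_one (IsIrrCharacter.isCharacter hχ) (by rw [h1])
    · haveI : Nontrivial G := not_subsingleton_iff_nontrivial.1 hG
      obtain ⟨N, hNn, hNp⟩ := Cfsg.Agent.Lib.ClassSizes.SolvFrob.exists_normal_prime_index G
      have hcard := N.card_mul_index
      have hlt : Nat.card N < n := by
        rw [← hn, ← hcard]
        have := hNp.one_lt
        have hpos : 0 < Nat.card N := Nat.card_pos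
        nlinarith
      obtain ⟨M₀, _, _, hM₀, f₀, hf₀⟩ := ih _ hlt N rfl inferInstance
      obtain ⟨f, hf⟩ := exists_wr_embedding N hNp rfl f₀ hf₀
      haveI : NeZero N.index := ⟨hNp.ne_zero⟩
      exact ⟨Wr M₀ N.index, inferInstance, inferInstance, wr_mgroup hNp hM₀, f, hf⟩

end Embed

end Cfsg.Agent.Lib.MGroup
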